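import Mathlib
import Groth.Prelude.Def_CInt
import Groth.Prelude.Def_Coh
import Groth.Agent.Lib.Helper1.QcLoc

set_option linter.unusedSectionVars false
set_option linter.unusedVariables false
set_option linter.unusedSimpArgs false
set_option autoImplicit false
set_option linter.style.haveILetI false
set_option maxHeartbeats 400000

namespace Groth.Agent.Helper6.TFInjLib

open AlgebraicGeometry CategoryTheory TopologicalSpace Opposite

universe u

/-- Ring lemma: in a Noetherian ring, an ideal with trivial annihilator contains a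
non-zero-divisor. -/
lemma exists_regular_mem {R : Type*} [CommRing R] [IsNoetherianRing R] (I : Ideal R)
    (h : ∀ c : R, (∀ a ∈ I, c * a = 0) → c = 0) : ∃ r ∈ I, r ∈ nonZeroDivisors R := by
  by_contra hcon
  push Not at hcon
  have hdisj : Disjoint (I : Set R) (nonZeroDivisors R) := by
    rw [Set.disjoint_left]
    intro r hr hr'
    exact hcon r hr hr'
  have hlt := Ideal.bot_lt_annihilator_of_disjoint_nonZeroDivisors hdisj
  obtain ⟨c, hc, hc0⟩ := SetLike.exists_of_lt hlt
  apply hc0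
  rw [Ideal.mem_bot]
  apply h
  intro a ha
  have := Module.mem_annihilator.mp hc ⟨a, ha⟩
  have h2 : c • a = 0 := congrArg Subtype.val this
  exact h2

variable {X : Scheme.{u}}

/-- naturality of a morphism of modules with respect to restriction -/
lemma app_res {F G : X.Modules} (φ : F ⟶ G) {V W : X.Opens} (i : W ⟶ V) (s : Γ(F, V)) :
    φ.app W (F.presheaf.map i.op s) = G.presheaf.map i.op (φ.app V s) := by
  have h := φ.mapPresheaf.naturality i.op
  exact ConcreteCategory.congr_hom h s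

/-- sections of an abelian sheaf of modules vanish if they vanish on a cover -/
lemma eq_zero_of_locally (F : X.Modules) {ι : Type*} (W : ι → X.Opens) (V : X.Opens)
    (iWV : ∀ k, W k ⟶ V) (hcov : V ≤ iSup W) (s : Γ(F, V))
    (h : ∀ k, F.presheaf.map (iWV k).op s = 0) : s = 0 := by
  apply TopCat.Sheaf.eq_of_locally_eq' (⟨F.presheaf, F.isSheaf⟩ : TopCat.Sheaf Ab X) W V iWV hcov
  intro k
  show F.presheaf.map (iWV k).op s = F.presheaf.map (iWV k).op 0
  rw [h k, map_zero]

section main

variable [IsLocallyNoetherian X] (F G : X.Modules) [F.IsQuasicoherent]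
  (htf : ∀ V : X.affineOpens, Submodule.torsion Γ(X, V.1) Γ(F, V.1) = ⊥)
  (φ : F ⟶ G) (U : X.Opens) (hU : CInt.IsSchematicallyDense U)
  (hφU : ∀ V : X.Opens, V ≤ U → ∀ s : Γ(F, V), φ.app V s = 0 → s = 0)

include htf hU hφU in
lemma eq_zero_of_affine (V : X.affineOpens) (s : Γ(F, V.1)) (hs : φ.app V.1 s = 0) : s = 0 := by
  haveI : IsNoetherianRing Γ(X, V.1) := IsLocallyNoetherian.component_noetherian V
  let I : Ideal Γ(X, V.1) := LinearMap.ker (LinearMap.toSpanSingleton Γ(X, V.1) Γ(F, V.1) s)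
  have hI : ∀ a, a ∈ I ↔ a • s = 0 := fun a => by
    simp only [I, LinearMap.mem_ker, LinearMap.toSpanSingleton_apply]
  -- key: for `g` with `D(g) ≤ U`, a power of `g` kills `s`
  have hkill : ∀ g : Γ(X, V.1), X.basicOpen g ≤ U → ∃ n : ℕ, g ^ n ∈ I := by
    intro g hg
    have h1 : F.presheaf.map (homOfLE (X.basicOpen_le g)).op s = 0 := by
      apply hφU _ hg
      rw [app_res, hs, map_zero]
    obtain ⟨n, hn⟩ := Groth.Agent.Helper1.QcLoc.exists_kill V.2 F g s h1
    exact ⟨n, (hI _).mpr hn⟩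
  have hann : ∀ c : Γ(X, V.1), (∀ a ∈ I, c * a = 0) → c = 0 := by
    intro c hc
    apply hU V.1
    rw [map_zero]
    -- cover `V ⊓ U` by basic opens
    have hex : ∀ x : ↥(V.1 ⊓ U), ∃ g : Γ(X, V.1), X.basicOpen g ≤ V.1 ⊓ U ∧
        x.1 ∈ X.basicOpen g := fun x => V.2.exists_basicOpen_le x x.2.1
    choose g hgle hgx using hex
    apply TopCat.Sheaf.eq_of_locally_eq' X.sheaf (fun x : ↥(V.1 ⊓ U) => X.basicOpen (g x))
      (V.1 ⊓ U) (fun x => homOfLE (hgle x))
    · intro x hx
      exact Opens.mem_iSup.mpr ⟨⟨x, hx⟩, hgx ⟨x, hx⟩⟩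
    · intro x
      obtain ⟨n, hn⟩ := hkill (g x) ((hgle x).trans inf_le_right)
      have h0 : c * (g x) ^ n = 0 := hc _ hn
      have hcomp : X.presheaf.map (homOfLE (hgle x)).op
            (X.presheaf.map (homOfLE (inf_le_left : V.1 ⊓ U ≤ V.1)).op c) =
          X.presheaf.map (homOfLE (X.basicOpen_le (g x))).op c := by
        rw [← CommRingCat.comp_apply, ← Functor.map_comp]
        rfl
      show X.presheaf.map (homOfLE (hgle x)).op
            (X.presheaf.map (homOfLE (inf_le_left : V.1 ⊓ U ≤ V.1)).op c) =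
          X.presheaf.map (homOfLE (hgle x)).op 0
      rw [hcomp, map_zero]
      have hu : IsUnit ((X.presheaf.map (homOfLE (X.basicOpen_le (g x))).op).hom (g x)) :=
        X.toRingedSpace.isUnit_res_basicOpen (g x)
      have h1 := congrArg (X.presheaf.map (homOfLE (X.basicOpen_le (g x))).op).hom h0
      rw [map_mul, map_pow, map_zero] at h1
      exact (hu.pow n).mul_left_eq_zero.mp h1
  obtain ⟨r, hrI, hr⟩ := exists_regular_mem I hann
  have hmem : s ∈ Submodule.torsion Γ(X, V.1) Γ(F, V.1) := by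
    rw [Submodule.mem_torsion_iff]
    exact ⟨⟨r, hr⟩, (hI r).mp hrI⟩
  rw [htf V] at hmem
  exact (Submodule.mem_bot _).mp hmem

include htf hU hφU in
lemma eq_zero_of_app_eq_zero (V : X.Opens) (s : Γ(F, V)) (hs : φ.app V s = 0) : s = 0 := by
  have hex : ∀ x : ↥V, ∃ W : X.affineOpens, W.1 ≤ V ∧ x.1 ∈ W.1 := by
    intro x
    obtain ⟨_, ⟨W, hW, rfl⟩, hxW, hWV⟩ :=
      X.isBasis_affineOpens.exists_subset_of_mem_open x.2 V.isOpen
    exact ⟨⟨W, hW⟩, hWV, hxW⟩
  choose W hWV hxW using hex
  apply eq_zero_of_locally F (fun x : ↥V => (W x).1) V (fun x => homOfLE (hWV x))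
  · intro x hx
    exact Opens.mem_iSup.mpr ⟨⟨x, hx⟩, hxW ⟨x, hx⟩⟩
  · intro x
    apply eq_zero_of_affine F G htf φ U hU hφU (W x)
    rw [app_res, hs, map_zero]

end main

theorem injective_of_injective_on_dense (X : Scheme.{u})
    [IsLocallyNoetherian X] (F G : X.Modules) (hF : Coh.IsQCoh F)
    (htf : ∀ V : X.affineOpens, Submodule.torsion Γ(X, V.1) (F.val.obj (Opposite.op V.1)) = ⊥)
    (φ : F ⟶ G) (U : X.Opens) (hU : CInt.IsSchematicallyDense U)
    (hφU : ∀ V : X.Opens, V ≤ U →
      Function.Injective ⇑(ConcreteCategory.hom (φ.val.app (Opposite.op V)))) (V : X.Opens) :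
    Function.Injective ⇑(ConcreteCategory.hom (φ.val.app (Opposite.op V))) := by
  haveI : F.IsQuasicoherent := hF
  have hφU' : ∀ V : X.Opens, V ≤ U → ∀ s : Γ(F, V), φ.app V s = 0 → s = 0 := by
    intro V hV s hs
    exact (injective_iff_map_eq_zero (ConcreteCategory.hom (φ.val.app (Opposite.op V)))).mp
      (hφU V hV) s hs
  rw [injective_iff_map_eq_zero]
  intro s hs
  exact eq_zero_of_app_eq_zero F G htf φ U hU hφU' V s hs

end Groth.Agent.Helper6.TFInjLib
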